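import Groth.Agent.Lib.IsQuot25.Props
import Groth.Agent.Lib.CurveOm17.Chart
import Groth.Agent.Lib.VarDim.Alg
import Groth.Agent.Lib.CurveCartier25.Sum
import Groth.Agent.Lib.AlgSpDecent.DimMor

/-!
# Quotients of smooth curves by finite groups
-/

set_option autoImplicit false
set_option linter.style.haveILetI false
set_option backward.isDefEq.respectTransparency.types false
set_option maxHeartbeats 800000

universe u

open CategoryTheory Limits AlgebraicGeometry TopologicalSpace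

namespace Groth.Agent.QuotCurve17

variable {X Y : Scheme.{u}} [IsIntegral X]
  {G : Type u} [Group G] [Finite G] {ρ : G →* Aut X} {π : X ⟶ Y}

/-- The quotient of an integral scheme is integral. -/
theorem isIntegral_quot (hp : SGA1.IsQuot ρ π) : IsIntegral Y := by
  haveI : IsReduced Y :=
    ⟨fun U => isReduced_of_injective (π.app U).hom (hp.injective U)⟩
  haveI : Nonempty Y := ⟨π (genericPoint X)⟩
  haveI : IrreducibleSpace Y := (irreducibleSpace_def Y).2 (by
    show IsIrreducible (Set.univ : Set Y)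
    rw [← (IsQuot25.surjective hp).range_eq, ← Set.image_univ]
    exact (IrreducibleSpace.isIrreducible_univ X).image π π.continuous.continuousOn)
  exact isIntegral_of_irreducibleSpace_of_isReduced Y


/-- Charts of the quotient of a curve are Dedekind and the extension is flat. -/
theorem chart_props (k : Type u) [Field k] [X.Over (Spec (CommRingCat.of k))] [Smooth (X ↘ Spec (CommRingCat.of k))] (hdim : topologicalKrullDim X ≤ 1) (hp : SGA1.IsQuot ρ π) [IsLocallyNoetherian Y]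
    [IsIntegral Y] [IsFinite π] {U : Y.Opens} (hU : IsAffineOpen U) (hne : (U : Set Y).Nonempty) :
    IsDedekindDomain Γ(Y, U) ∧ (π.app U).hom.Flat := by
  haveI : Nonempty U := ⟨⟨hne.some, hne.some_mem⟩⟩
  haveI : Nonempty (π ⁻¹ᵁ U) := by
    obtain ⟨x, hx⟩ := IsQuot25.surjective hp hne.some
    exact ⟨⟨x, show π x ∈ U by rw [hx]; exact hne.some_mem⟩⟩
  have hV := IsQuot25.isAffineOpen_preimage hp hU
  haveI : IsDedekindDomain Γ(X, π ⁻¹ᵁ U) := CurveOm17.isDedekindDomain_sections (k := k) hdim hV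
  letI := (π.app U).hom.toAlgebra
  letI := IsQuot25.action hp.inv U
  haveI := IsQuot25.isInvariant hp U
  haveI := IsQuot25.smulCommClass hp.inv U
  haveI : IsNoetherianRing Γ(Y, U) := IsLocallyNoetherian.component_noetherian ⟨U, hU⟩
  have hinj : Function.Injective (algebraMap Γ(Y, U) Γ(X, π ⁻¹ᵁ U)) := hp.injective U
  haveI : FaithfulSMul Γ(Y, U) Γ(X, π ⁻¹ᵁ U) := (faithfulSMul_iff_algebraMap_injective _ _).2 hinj
  haveI : Module.Finite Γ(Y, U) Γ(X, π ⁻¹ᵁ U) := π.finite_app U hU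
  haveI : IsIntegrallyClosed Γ(Y, U) := (isIntegrallyClosed_iff (FractionRing Γ(Y, U))).2 fun {x} hx => by
    obtain ⟨a, b, hb, rfl⟩ := IsFractionRing.div_surjective Γ(Y, U) x
    let φ : FractionRing Γ(Y, U) →+* FractionRing Γ(X, π ⁻¹ᵁ U) := IsFractionRing.lift
      (g := (algebraMap Γ(X, π ⁻¹ᵁ U) (FractionRing Γ(X, π ⁻¹ᵁ U))).comp (algebraMap Γ(Y, U) Γ(X, π ⁻¹ᵁ U)))
      ((IsFractionRing.injective Γ(X, π ⁻¹ᵁ U) (FractionRing Γ(X, π ⁻¹ᵁ U))).comp hinj)
    have hφ : ∀ c : Γ(Y, U), φ (algebraMap _ _ c) =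
        algebraMap Γ(X, π ⁻¹ᵁ U) (FractionRing Γ(X, π ⁻¹ᵁ U)) (algebraMap _ _ c) :=
      fun c => IsFractionRing.lift_algebraMap _ c
    have hint : IsIntegral Γ(X, π ⁻¹ᵁ U) (φ (algebraMap _ _ a / algebraMap _ _ b)) := by
      obtain ⟨P, hm, he⟩ := hx
      refine ⟨P.map (algebraMap _ _), hm.map _, ?_⟩
      rw [Polynomial.eval₂_map]
      have := congrArg φ he
      rw [map_zero, Polynomial.hom_eval₂] at this
      rw [← this]
      congr 1
      exact RingHom.ext fun c => (hφ c).symm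
    obtain ⟨c, hc⟩ := IsIntegrallyClosed.isIntegral_iff.1 hint
    have hb0 : algebraMap Γ(Y, U) Γ(X, π ⁻¹ᵁ U) b ≠ 0 := fun h =>
      nonZeroDivisors.ne_zero hb (hinj (h.trans (map_zero _).symm))
    have hbc : algebraMap Γ(Y, U) Γ(X, π ⁻¹ᵁ U) b * c = algebraMap _ _ a := by
      refine IsFractionRing.injective _ (FractionRing Γ(X, π ⁻¹ᵁ U)) ?_
      rw [map_mul, hc, ← hφ, ← hφ, ← map_mul,
        mul_div_cancel₀ _ (IsFractionRing.to_map_ne_zero_of_mem_nonZeroDivisors hb)]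
    obtain ⟨d, hd⟩ := Algebra.IsInvariant.isInvariant (A := Γ(Y, U)) (G := G) c fun g => by
      refine mul_left_cancel₀ hb0 ?_
      have := congrArg (g • ·) hbc
      simp only [smul_mul', smul_algebraMap] at this
      exact this.trans hbc.symm
    refine ⟨d, ?_⟩
    rw [eq_div_iff (IsFractionRing.to_map_ne_zero_of_mem_nonZeroDivisors hb), ← map_mul]
    exact congrArg _ (hinj (by rw [map_mul, hd, mul_comm, hbc]))
  haveI : Algebra.IsIntegral Γ(Y, U) Γ(X, π ⁻¹ᵁ U) := Algebra.IsIntegral.of_finite _ _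
  haveI : Ring.KrullDimLE 1 Γ(Y, U) := Ring.krullDimLE_iff.2 (by
    rw [← VarDim.ringKrullDim_eq_of_isIntegral hinj, ← PrimeSpectrum.topologicalKrullDim_eq_ringKrullDim]
    exact (hV.fromSpec.isOpenEmbedding.isInducing.topologicalKrullDim_le).trans hdim)
  haveI := KrullAkizuki.dimensionLEOne_of_krullDimLE Γ(Y, U)
  haveI : IsDedekindRing Γ(Y, U) := { }
  haveI : IsDedekindDomain Γ(Y, U) := { }
  refine ⟨inferInstance, ?_⟩
  show (algebraMap Γ(Y, U) Γ(X, π ⁻¹ᵁ U)).Flat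
  rw [RingHom.flat_algebraMap_iff]
  exact IsDedekindDomain.flat_iff_torsion_eq_bot.2
    (Submodule.isTorsionFree_iff_torsion_eq_bot.1 inferInstance)

/-- The quotient map of a curve is flat. -/
theorem flat_quot (k : Type u) [Field k] [X.Over (Spec (CommRingCat.of k))] [Smooth (X ↘ Spec (CommRingCat.of k))] (hdim : topologicalKrullDim X ≤ 1) (hp : SGA1.IsQuot ρ π) [IsLocallyNoetherian Y]
    [IsIntegral Y] [IsFinite π] : Flat π := by
  refine IsZariskiLocalAtTarget.of_iSup_eq_top (P := @Flat)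
    (fun V : {V : Y.Opens | IsAffineOpen V ∧ (V : Set Y).Nonempty} => V.1) ?_ fun V => ?_
  · exact top_le_iff.1 fun y _ => by
      obtain ⟨V, hV, hy, -⟩ := exists_isAffineOpen_mem_and_subset (show y ∈ (⊤ : Y.Opens) from trivial)
      exact TopologicalSpace.Opens.mem_iSup.2 ⟨⟨V, hV, ⟨y, hy⟩⟩, hy⟩
  · obtain ⟨V, hV, hne⟩ := V
    haveI : IsAffine (V : Scheme) := hV
    haveI : IsAffine ((π ⁻¹ᵁ V : X.Opens) : Scheme) := IsQuot25.isAffineOpen_preimage hp hV
    rw [HasRingHomProperty.iff_of_isAffine (P := @Flat)]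
    show ((π ∣_ V).appTop).hom.Flat
    rw [morphismRestrict_appTop]
    have hi : IsIso (X.presheaf.map (eqToHom (image_morphismRestrict_preimage π V ⊤)).op) := inferInstance
    have h0 : (π.app (V.ι ''ᵁ ⊤)).hom.Flat := by
      rw [Scheme.Opens.ι_image_top]
      exact (chart_props k hdim hp hV hne).2
    exact RingHom.Flat.comp h0
      (RingHom.Flat.of_bijective (ConcreteCategory.bijective_of_isIso
        (X.presheaf.map (eqToHom (image_morphismRestrict_preimage π V ⊤)).op)))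

/-- An effective quotient has degree the order of the group. -/
theorem finrank_quot [X.IsSeparated] (hρ : Function.Injective ρ) (hp : SGA1.IsQuot ρ π) [IsIntegral Y]
    [IsFinite π] [Flat π] (y : Y) : π.finrank y = Nat.card G := by
  obtain ⟨U, hU, hy, -⟩ := exists_isAffineOpen_mem_and_subset (show y ∈ (⊤ : Y.Opens) from trivial)
  haveI : Nonempty U := ⟨⟨y, hy⟩⟩
  obtain ⟨x₀, hx₀⟩ := IsQuot25.surjective hp y
  have hx₀' : x₀ ∈ π ⁻¹ᵁ U := show π x₀ ∈ U by rw [hx₀]; exact hy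
  haveI : Nonempty (π ⁻¹ᵁ U) := ⟨⟨x₀, hx₀'⟩⟩
  have hV := IsQuot25.isAffineOpen_preimage hp hU
  rw [← CurveCartier25.finrank_eq_app π hU y hy]
  letI := (π.app U).hom.toAlgebra
  letI := IsQuot25.action hp.inv U
  haveI := IsQuot25.isInvariant hp U
  haveI := IsQuot25.smulCommClass hp.inv U
  haveI : Module.Finite Γ(Y, U) Γ(X, π ⁻¹ᵁ U) := π.finite_app U hU
  have hinj : Function.Injective (algebraMap Γ(Y, U) Γ(X, π ⁻¹ᵁ U)) := hp.injective U
  haveI : FaithfulSMul Γ(Y, U) Γ(X, π ⁻¹ᵁ U) := (faithfulSMul_iff_algebraMap_injective _ _).2 hinj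
  haveI : FaithfulSMul G Γ(X, π ⁻¹ᵁ U) := ⟨fun {g h} hgh => by
    suffices ∀ g : G, (∀ b : Γ(X, π ⁻¹ᵁ U), g • b = b) → g = 1 by
      exact eq_of_inv_mul_eq_one (this _ fun b => by rw [mul_smul, ← hgh b, inv_smul_smul])
    intro g hg
    apply inv_injective
    rw [inv_one]
    apply hρ
    rw [map_one]
    refine Iso.ext ?_
    show (ρ g⁻¹).hom = 𝟙 X
    haveI : IsDominant hV.fromSpec := ⟨hV.fromSpec.isOpenEmbedding.isOpen_range.dense
      ⟨x₀, by rw [hV.range_fromSpec]; exact hx₀'⟩⟩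
    refine ext_of_isDominant hV.fromSpec ?_
    have h1 := hV.SpecMap_appLE_fromSpec (ρ g⁻¹).hom hV (SGA1.preimage_le_of_inv ρ π hp.inv g⁻¹ U)
    have h2 : (ρ g⁻¹).hom.appLE (π ⁻¹ᵁ U) (π ⁻¹ᵁ U) (SGA1.preimage_le_of_inv ρ π hp.inv g⁻¹ U) = 𝟙 _ :=
      CommRingCat.hom_ext (RingHom.ext fun b => hg b)
    rw [h2, Spec.map_id, Category.id_comp] at h1
    exact h1.symm.trans (Category.comp_id _).symm⟩
  haveI : IsGaloisGroup G Γ(Y, U) Γ(X, π ⁻¹ᵁ U) := ⟨inferInstance, inferInstance, inferInstance⟩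
  rw [IsGaloisGroup.card_eq_finrank' G Γ(Y, U) Γ(X, π ⁻¹ᵁ U)]
  show Module.rankAtStalk Γ(X, π ⁻¹ᵁ U) (hU.primeIdealOf ⟨y, hy⟩) = _
  set p := hU.primeIdealOf ⟨y, hy⟩
  have hle : p.asIdeal.primeCompl ≤ nonZeroDivisors Γ(Y, U) := Ideal.primeCompl_le_nonZeroDivisors _
  exact (IsLocalization.finrank_eq (Localization.AtPrime p.asIdeal) p.asIdeal.primeCompl hle).trans
    (IsLocalizedModule.finrank_eq p.asIdeal.primeCompl
      (LocalizedModule.mkLinearMap p.asIdeal.primeCompl Γ(X, π ⁻¹ᵁ U)) hle)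

end Groth.Agent.QuotCurve17
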